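import Cfsg.Agent.Lib.Helper28.He2058Simple
import Cfsg.Agent.Lib.Helper93.Sp4.Chain

/-!
# The subgroup `Sp₄(4)` of the presented Held group: the He side (helper93)
-/

set_option autoImplicit false
set_option maxRecDepth 100000

namespace Cfsg.Agent.Lib.Helper93.Sp4

open Cfsg.Agent.Lib.Helper28

/-- the letters as words in the generators of He -/
def ex : ℕ → List ℕ
  | 0 => [2]
  | 1 => [3]
  | 2 => [4]
  | 3 => [5]
  | 4 => [1, 2, 3, 4, 1, 2, 3, 4, 1, 2, 3, 4, 1, 2, 3, 4, 1, 2, 3, 4, 1, 2, 3, 4, 1, 2, 3, 4]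
  | 5 => [4, 3, 2, 1, 4, 3, 2, 1, 4, 3, 2, 1, 4, 3, 2, 1, 4, 3, 2, 1, 4, 3, 2, 1, 4, 3, 2, 1]
  | 6 => [0, 1, 0, 1]
  | 7 => [0]
  | _ => []

/-- the Held group -/
abbrev HeG : Type := He2058.Q.Grp

/-- values of the letters in He -/
noncomputable def vHe (x : ℕ) : HeG := evalW He2058.Q.val (ex x)

theorem evalW_vHe (w : List ℕ) : evalW vHe w = evalW He2058.Q.val (w.flatMap ex) := by
  induction w with
  | nil => rfl
  | cons x w ih => rw [evalW_cons, List.flatMap_cons, evalW_append, ih]; rfl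

/-- all words to be checked, expanded -/
def WX : List (List ℕ) :=
  (W ++ W0 ++ (List.range 8).map (fun y => [y, oinv y])).map (fun w => w.flatMap ex)

theorem WX_lt : ∀ w ∈ WX, ∀ y ∈ w, y < 7 := by decide +kernel

theorem WX_chk : allBelow (fun c => allList (fun w => He2058.L.checkRel w c) WX) 2058 = true := by
  decide +kernel

theorem WX_one : ∀ w ∈ WX, evalW He2058.Q.val w = 1 := by
  intro w hw
  refine He2058.ok.eq_one_of_check He2058.main.2.2 w (WX_lt w hw) ?_
  intro c hc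
  exact allList_iff.mp (allBelow_iff.mp WX_chk c hc) w hw

theorem vHe_one_of_mem {w : List ℕ}
    (hw : w ∈ W ++ W0 ++ (List.range 8).map (fun y => [y, oinv y])) : evalW vHe w = 1 := by
  rw [evalW_vHe]
  exact WX_one _ (List.mem_map_of_mem hw)

theorem vHe_W : ∀ w ∈ W, evalW vHe w = 1 := fun _ hw =>
  vHe_one_of_mem (List.mem_append_left _ (List.mem_append_left _ hw))

theorem vHe_W0 : ∀ w ∈ W0, evalW vHe w = 1 := fun _ hw =>
  vHe_one_of_mem (List.mem_append_left _ (List.mem_append_right _ hw))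

theorem vHe_oinv : ∀ y < 8, vHe (oinv y) = (vHe y)⁻¹ := by
  intro y hy
  have h : evalW vHe [y, oinv y] = 1 :=
    vHe_one_of_mem (List.mem_append_right _ (List.mem_map_of_mem (List.mem_range.mpr hy)))
  rw [evalW_cons, evalW_cons, evalW_nil, mul_one] at h
  exact (inv_eq_of_mul_eq_one_right h).symm

/-- the subgroup `Sp₄(4)` -/
noncomputable def N0 : Subgroup HeG := Sg vHe [0, 1, 2, 3, 4, 5]

/-- the subgroup `Sp₄(4):2` -/
noncomputable abbrev H0 : Subgroup HeG := Prob.HS He2058.Q He2058.S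

theorem val_eq (x : ℕ) (hx : x < 7) :
    He2058.Q.val x = PresentedGroup.mk He2058.Q.P.rels (HePD.lfree x) :=
  Prob.val_lt (Q := He2058.Q) hx

theorem H0_eq : H0 = Sg vHe [0, 1, 2, 3, 4, 5, 6, 7] := by
  have e0 : vHe 0 = PresentedGroup.mk He2058.Q.P.rels Cfsg.Spor.He.c := by
    simp [vHe, ex, val_eq, HePD.lfree]
  have e1 : vHe 1 = PresentedGroup.mk He2058.Q.P.rels Cfsg.Spor.He.d := by
    simp [vHe, ex, val_eq, HePD.lfree]
  have e2 : vHe 2 = PresentedGroup.mk He2058.Q.P.rels Cfsg.Spor.He.e := by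
    simp [vHe, ex, val_eq, HePD.lfree]
  have e3 : vHe 3 = PresentedGroup.mk He2058.Q.P.rels Cfsg.Spor.He.f := by
    simp [vHe, ex, val_eq, HePD.lfree]
  have e4 : vHe 4 = PresentedGroup.mk He2058.Q.P.rels
      ((Cfsg.Spor.He.b * Cfsg.Spor.He.c * Cfsg.Spor.He.d * Cfsg.Spor.He.e) ^ 7) := by
    simp only [vHe, ex, evalW_cons, evalW_nil, val_eq _ (show 1 < 7 by norm_num),
      val_eq _ (show 2 < 7 by norm_num), val_eq _ (show 3 < 7 by norm_num),
      val_eq _ (show 4 < 7 by norm_num), HePD.lfree, map_pow, map_mul]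
    simp only [pow_succ, pow_zero, one_mul, mul_one, mul_assoc]
  have e5 : vHe 5 = (vHe 4)⁻¹ := vHe_oinv 4 (by norm_num)
  have e6 : vHe 6 = PresentedGroup.mk He2058.Q.P.rels ((Cfsg.Spor.He.a * Cfsg.Spor.He.b) ^ 2) := by
    simp only [vHe, ex, evalW_cons, evalW_nil, val_eq _ (show 0 < 7 by norm_num),
      val_eq _ (show 1 < 7 by norm_num), HePD.lfree, map_pow, map_mul]
    simp only [pow_succ, pow_zero, one_mul, mul_one, mul_assoc]
  have e7 : vHe 7 = PresentedGroup.mk He2058.Q.P.rels Cfsg.Spor.He.a := by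
    simp [vHe, ex, val_eq, HePD.lfree]
  apply le_antisymm
  · show (Subgroup.closure He2058.S).map _ ≤ _
    rw [Subgroup.map_le_iff_le_comap, Subgroup.closure_le]
    have hm : ∀ x ∈ [0, 1, 2, 3, 4, 5, 6, 7], vHe x ∈ Sg vHe [0, 1, 2, 3, 4, 5, 6, 7] :=
      fun x hx => Subgroup.subset_closure ⟨x, hx, rfl⟩
    intro s hs
    simp only [He2058.S, Set.mem_insert_iff, Set.mem_singleton_iff] at hs
    show PresentedGroup.mk He2058.Q.P.rels s ∈ Sg vHe [0, 1, 2, 3, 4, 5, 6, 7]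
    rcases hs with rfl | rfl | rfl | rfl | rfl | rfl | rfl
    · rw [← e7]; exact hm 7 (by simp)
    · rw [← e0]; exact hm 0 (by simp)
    · rw [← e1]; exact hm 1 (by simp)
    · rw [← e2]; exact hm 2 (by simp)
    · rw [← e3]; exact hm 3 (by simp)
    · rw [← e6]; exact hm 6 (by simp)
    · rw [← e4]; exact hm 4 (by simp)
  · unfold Sg
    rw [Subgroup.closure_le]
    have hS : ∀ s ∈ He2058.S, PresentedGroup.mk He2058.Q.P.rels s ∈ H0 :=
      fun s hs => Subgroup.mem_map_of_mem _ (Subgroup.subset_closure hs)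
    rintro _ ⟨x, hx, rfl⟩
    have hx' : x ∈ [0, 1, 2, 3, 4, 5, 6, 7] := hx
    simp only [List.mem_cons, List.mem_nil_iff, or_false] at hx'
    show vHe x ∈ H0
    rcases hx' with rfl | rfl | rfl | rfl | rfl | rfl | rfl | rfl
    · rw [e0]; exact hS _ (by simp [He2058.S])
    · rw [e1]; exact hS _ (by simp [He2058.S])
    · rw [e2]; exact hS _ (by simp [He2058.S])
    · rw [e3]; exact hS _ (by simp [He2058.S])
    · rw [e4]; exact hS _ (by simp [He2058.S])
    · rw [e5, e4]; exact H0.inv_mem (hS _ (by simp [He2058.S]))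
    · rw [e6]; exact hS _ (by simp [He2058.S])
    · rw [e7]; exact hS _ (by simp [He2058.S])

theorem card_H0 : Nat.card H0 = 1958400 := by
  have h1 : Nat.card H0 * H0.index = Nat.card HeG := H0.card_mul_index
  have h2 : H0.index = 2058 := He2058.index_eq
  rw [h2, He2058.main.2.1] at h1
  omega

theorem N0_le : N0 ≤ H0 := by
  rw [H0_eq]
  unfold N0 Sg
  apply Subgroup.closure_mono
  rintro _ ⟨x, hx, rfl⟩
  refine ⟨x, ?_, rfl⟩
  have hx' : x ∈ [0, 1, 2, 3, 4, 5] := hx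
  show x ∈ [0, 1, 2, 3, 4, 5, 6, 7]
  simp only [List.mem_cons, List.mem_nil_iff, or_false] at hx' ⊢
  omega

theorem card_N0 : Nat.card N0 = 979200 := by
  have hb := bound_1 vHe vHe_W (fun y hy => vHe_oinv y (by omega))
  have ht := top_le vHe vHe_W0 vHe_oinv hb.1
  rw [← H0_eq, card_H0] at ht
  have h2 : Nat.card N0 ≤ 979200 := hb.2
  have h3 : 1958400 ≤ 2 * Nat.card N0 := ht
  omega

end Cfsg.Agent.Lib.Helper93.Sp4
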