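import Cfsg.Agent.Lib.Helper28.TCChain

set_option autoImplicit false

namespace Cfsg.Agent.Lib.Helper93.Sp4

/-- relator words for `Sp₄(4):2`; letters 0 c, 1 d, 2 e, 3 f, 4 t, 5 t⁻¹, 6 s, 7 a -/
def W : List (List ℕ) := [
  [0, 1, 0, 1, 0, 1, 0, 1, 0, 1, 0, 1, 0, 1, 0, 1, 0, 1, 0, 1],
  [0, 3, 0, 3],
  [1, 3, 1, 3, 1, 3],
  [0, 1, 0, 1, 0, 1, 0, 1, 0, 1, 3, 0, 1, 0, 1, 0, 1, 0, 1, 0, 1, 3],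
  [0, 2, 0, 2],
  [1, 2, 1, 2, 1, 2],
  [0, 1, 2, 0, 1, 2, 0, 1, 2, 0, 1, 2, 0, 1, 2],
  [0, 1, 0, 1, 3, 1, 2, 0, 1, 0, 1, 3, 1, 2, 0, 1, 0, 1, 3, 1, 2],
  [0, 4, 0, 5],
  [1, 4, 1, 4],
  [2, 4, 2, 4],
  [3, 4, 3, 4, 3, 4],
  [2, 3, 4, 2, 4, 3],
  [4, 4, 4]]
/-- relator words for the top link -/
def W0 : List (List ℕ) := [
  [6, 0, 6, 2, 1, 0, 1, 0, 1, 0, 1, 0, 1],
  [6, 1, 6, 1],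
  [6, 2, 6, 2],
  [6, 3, 6, 3],
  [6, 4, 6, 5],
  [7, 1, 0, 1, 0, 1, 0, 1, 0, 1, 0]]
/-- inverse letters -/
def oinv : ℕ → ℕ
  | 4 => 5
  | 5 => 4
  | x => x

end Cfsg.Agent.Lib.Helper93.Sp4
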