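import Cfsg.Agent.Lib.Helper5.SpOrder
import Cfsg.Agent.Lib.Helper5.SpPerfect
import Cfsg.Agent.Lib.Helper93.Sp4.Chain

/-!
# `Sp₄(4)` as a matrix group over a concrete field with four elements (helper93)
-/

set_option autoImplicit false
set_option maxRecDepth 100000

namespace Cfsg.Agent.Lib.Helper93.Sp4

open Cfsg.Agent.Lib.Helper28 Cfsg.Agent.Lib.Helper13 Cfsg.Agent.Lib.Helper5 Matrix

/-- the field with four elements `0, 1, ω, ω²` -/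
inductive K4
  | z | o | w | u
  deriving DecidableEq

instance instFintypeK4 : Fintype K4 :=
  ⟨⟨[K4.z, K4.o, K4.w, K4.u], by decide⟩, by intro x; cases x <;> decide⟩

namespace K4

/-- addition -/
def add : K4 → K4 → K4
  | z, b => b
  | a, z => a
  | o, o => z | o, w => u | o, u => w
  | w, o => u | w, w => z | w, u => o
  | u, o => w | u, w => o | u, u => z

/-- multiplication -/
def mul : K4 → K4 → K4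
  | z, _ => z
  | _, z => z
  | o, b => b
  | a, o => a
  | w, w => u | w, u => o
  | u, w => o | u, u => w

/-- inversion -/
def inv : K4 → K4
  | z => z | o => o | w => u | u => w

instance : Add K4 := ⟨add⟩
instance : Mul K4 := ⟨mul⟩
instance : Neg K4 := ⟨id⟩
instance : Inv K4 := ⟨inv⟩
instance : Zero K4 := ⟨z⟩
instance : One K4 := ⟨o⟩

instance instFieldK4 : Field K4 :=
  Field.ofMinimalAxioms K4 (by decide) (by decide) (by decide) (by decide) (by decide) (by decide)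
    (by decide) (by decide) (by decide) (by decide)

theorem card_eq : Fintype.card K4 = 4 := rfl

end K4

/-- the vectors -/
abbrev V4 : Type := Fin 2 ⊕ Fin 2 → K4
/-- the group -/
abbrev SpG : Type := Matrix.symplecticGroup (Fin 2) K4

/-- numbering of the coordinates -/
def idx : Fin 2 ⊕ Fin 2 → ℕ
  | .inl i => i.val
  | .inr i => 2 + i.val

/-- decoding of field elements -/
def ofN : ℕ → K4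
  | 0 => .z | 1 => .o | 2 => .w | _ => .u

/-- decoding of vectors -/
def dec (n : ℕ) : V4 := fun i => ofN ((n >>> (2 * idx i)) &&& 3)

/-- decoding of matrices -/
def mat (T : ℕ) : Matrix (Fin 2 ⊕ Fin 2) (Fin 2 ⊕ Fin 2) K4 :=
  Matrix.of fun i j => ofN ((T >>> (2 * (4 * idx i + idx j))) &&& 3)

/-- the matrices of the letters -/
def MT : List ℕ := [1083344385, 89407745, 1079002369, 1074873345, 1427178516, 1409614869]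

theorem MT_mem : ∀ T ∈ 1074791425 :: MT, mat T ∈ Matrix.symplecticGroup (Fin 2) K4 := by
  simp only [SymplecticGroup.mem_iff]
  decide +kernel

/-- values of the letters -/
def vM (x : ℕ) : SpG := ⟨mat (MT.getD x 1074791425), MT_mem _ (by
  by_cases h : x < MT.length
  · rw [List.getD_eq_getElem _ _ h]; exact List.mem_cons_of_mem _ (List.getElem_mem h)
  · rw [List.getD_eq_default _ _ (Nat.le_of_not_lt h)]; exact List.mem_cons_self)⟩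

/-- the action of the letters on coded vectors -/
def AT : List ℕ := [
  0xffd6c1e8fbd2c5ecf7dec9e0f3dacde4efc6d1f8ebc2d5fce7ced9f0e3caddf4dff6e1c8dbf2e5ccd7fee9c0d3faedc4cfe6f1d8cbe2f5dcc7eef9d0c3eafdd497bea98093baad849fb6a1889bb2a58c87aeb99083aabd948fa6b1988ba2b59cb79e89a0b39a8da4bf9681a8bb9285aca78e99b0a38a9db4af8691b8ab8295bc436a7d54476e79504b62755c4f667158537a6d44577e69405b72654c5f766148634a5d74674e59706b42557c6f465178735a4d64775e49607b52456c7f5641682b02153c2f061138230a1d34270e19303b12052c3f160128331a0d24371e09200b22351c0f263118032a3d14072e39101b32250c1f362108133a2d04173e2900,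
  0x3376b9fc6326e9ac93d6195cc386490c2366a9ec7336f9bc83c6094cd396591c135699dc4306c98cb3f6397ce3a6692c034689cc5316d99ca3e6296cf3b6793c2762ade87732fdb887c20d48d7925d183772bdf86722eda897d21d58c7824d0807428dc85712dd98a7e22d68f7b27d3817529dd84702cd88b7f23d78e7a26d281b5e91d44b0ec184bbfe3174ebae61240b4e81c45b1ed194abee2164fbbe71343b7eb1f46b2ee1a49bde1154cb8e41042b6ea1e47b3ef1b48bce0144db9e51140f4a85c05f1ad590afea2560ffba75301f5a95d04f0ac580bffa3570efaa65202f6aa5e07f3af5b08fca0540df9a55103f7ab5f06f2ae5a09fda1550cf8a4500,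
  0xcfcac5c0cbcec1c4c7c2cdc8c3c6c9ccdfdad5d0dbded1d4d7d2ddd8d3d6d9dcefeae5e0ebeee1e4e7e2ede8e3e6e9ecfffaf5f0fbfef1f4f7f2fdf8f3f6f9fc9b9e91949f9a95909396999c97929d988b8e81848f8a85808386898c87828d88bbbeb1b4bfbab5b0b3b6b9bcb7b2bdb8abaea1a4afaaa5a0a3a6a9aca7a2ada867626d686366696c6f6a65606b6e616477727d787376797c7f7a75707b7e717447424d484346494c4f4a45404b4e414457525d585356595c5f5a55505b5e51543336393c37323d383b3e31343f3a35302326292c27222d282b2e21242f2a25201316191c17121d181b1e11141f1a15100306090c07020d080b0e01040f0a0500,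
  0xc3d2e1f0c7d6e5f4cbdae9f8cfdeedfcd3c2f1e0d7c6f5e4dbcaf9e8dfcefdece3f2c1d0e7f6c5d4ebfac9d8effecddcf3e2d1c0f7e6d5c4fbead9c8ffeeddcc8796a5b48392a1b08f9eadbc8b9aa9b89786b5a49382b1a09f8ebdac9b8ab9a8a7b68594a3b28190afbe8d9cabba8998b7a69584b3a29180bfae9d8cbbaa99884b5a69784f5e6d7c43526170475665745b4a79685f4e7d6c53427160574675646b7a49586f7e4d5c63724150677645547b6a59487f6e5d4c73625140776655440f1e2d3c0b1a293807162534031221301f0e3d2c1b0a392817063524130231202f3e0d1c2b3a091827360514233201103f2e1d0c3b2a19083726150433221100,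
  0xc5cacfc4919e9b986d62676c39363335d0dfdad1848b8e8d787772792c23262aefe0e5eebbb4b1b247484d46131c191ffaf5f0fbaea1a4a7525d585306090c04c1cecbc0959a9f9c696663683d323731d4dbded5808f8a897c73767d2827222eebe4e1eabfb0b5b6434c494217181d1bfef1f4ffaaa5a0a356595c57020d0808cdc2c7cc99969390656a6f64313e3b3dd8d7d2d98c838685707f7a71242b2e22e7e8ede6b3bcb9ba4f40454e1b141117f2fdf8f3a6a9acaf5a55505b0e01040cc9c6c3c89d929794616e6b60353a3f39dcd3d6dd88878281747b7e75202f2a26e3ece9e2b7b8bdbe4b44414a1f101513f6f9fcf7a2ada8ab5e51545f0a05000,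
  0xcfdeedfc9a8bb8a965744756302112038e9facbddbcaf9e824350617716053424d5c6f7e18093a2be7f6c5d4b2a390810c1d2e3f59487b6aa6b78495f3e2d1c08f9eadbcdacbf8e92534071670615243cedfecfd9b8ab9a864754657312013020d1c2f3e58497a6ba7b68594f2e3d0c14c5d6e7f19083b2ae6f7c4d5b3a291804f5e6d7c1a0b3829e5f4c7d6b0a192830e1f2c3d5b4a7968a4b58697f1e0d3c2cddceffe9889baab67764554322310018c9daebfd9c8fbea26370415736251400f1e2d3c5a4b7869a5b48796f0e1d2c34e5f6c7d1b0a3928e4f5c6d7b1a093828d9cafbed8c9faeb2736051472635041ccddeeff9988bbaa6677445533221100]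

/-- the action on codes -/
def act (x n : ℕ) : ℕ := ((AT.getD x 0) >>> (8 * n)) &&& 255

theorem act_spec : ∀ x < 6, ∀ n < 256, act x n < 256 ∧ dec (act x n) = (vM x).1 *ᵥ dec n := by
  decide +kernel

theorem dec_surj (v : V4) : ∃ n < 256, dec n = v := by
  have key : ∀ a b c d : K4, ∃ n < 256, dec n (.inl 0) = a ∧ dec n (.inl 1) = b ∧
      dec n (.inr 0) = c ∧ dec n (.inr 1) = d := by decide +kernel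
  obtain ⟨n, hn, h0, h1, h2, h3⟩ := key (v (.inl 0)) (v (.inl 1)) (v (.inr 0)) (v (.inr 1))
  refine ⟨n, hn, ?_⟩
  funext i
  rcases i with i | i <;> fin_cases i
  · exact h0
  · exact h1
  · exact h2
  · exact h3

theorem foldr_spec (w : List ℕ) (hw : ∀ y ∈ w, y < 6) (n : ℕ) (hn : n < 256) :
    w.foldr act n < 256 ∧ dec (w.foldr act n) = (evalW vM w).1 *ᵥ dec n := by
  induction w with
  | nil =>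
    refine ⟨hn, ?_⟩
    show dec n = (1 : Matrix (Fin 2 ⊕ Fin 2) (Fin 2 ⊕ Fin 2) K4) *ᵥ dec n
    rw [Matrix.one_mulVec]
  | cons x w ih =>
    obtain ⟨h1, h2⟩ := ih (fun y hy => hw y (List.mem_cons_of_mem _ hy))
    obtain ⟨h3, h4⟩ := act_spec x (hw x List.mem_cons_self) _ h1
    refine ⟨h3, ?_⟩
    rw [List.foldr_cons, h4, h2, evalW_cons, sp_mul_mulVec]

theorem eq_one_of_fix (w : List ℕ) (hw : ∀ y ∈ w, y < 6) (h : ∀ n < 256, w.foldr act n = n) :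
    evalW vM w = 1 := by
  apply sp_ext
  intro x
  obtain ⟨n, hn, rfl⟩ := dec_surj x
  rw [← (foldr_spec w hw n hn).2, h n hn]
  show dec n = (1 : Matrix (Fin 2 ⊕ Fin 2) (Fin 2 ⊕ Fin 2) K4) *ᵥ dec n
  rw [Matrix.one_mulVec]

theorem W_chk : ∀ w ∈ W ++ (List.range 6).map (fun y => [y, oinv y]),
    (∀ y ∈ w, y < 6) ∧ ∀ n < 256, w.foldr act n = n := by decide +kernel

theorem vM_W : ∀ w ∈ W, evalW vM w = 1 := fun w hw =>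
  eq_one_of_fix w (W_chk w (List.mem_append_left _ hw)).1 (W_chk w (List.mem_append_left _ hw)).2

theorem vM_oinv : ∀ y < 6, vM (oinv y) = (vM y)⁻¹ := by
  intro y hy
  have hm : [y, oinv y] ∈ W ++ (List.range 6).map (fun y => [y, oinv y]) :=
    List.mem_append_right _ (List.mem_map_of_mem (List.mem_range.mpr hy))
  have h : evalW vM [y, oinv y] = 1 := eq_one_of_fix _ (W_chk _ hm).1 (W_chk _ hm).2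
  rw [evalW_cons, evalW_cons, evalW_nil, mul_one] at h
  exact (inv_eq_of_mul_eq_one_right h).symm

/-- the subgroup generated by the matrices -/
def M0 : Subgroup SpG := Sg vM [0, 1, 2, 3, 4, 5]

theorem evalW_mem (w : List ℕ) (hw : ∀ y ∈ w, y < 6) : evalW vM w ∈ M0 := by
  induction w with
  | nil => exact M0.one_mem
  | cons x w ih =>
    rw [evalW_cons]
    refine M0.mul_mem (Subgroup.subset_closure ⟨x, ?_, rfl⟩) (ih (fun y hy => hw y (List.mem_cons_of_mem _ hy)))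
    have hx := hw x List.mem_cons_self
    show x ∈ [0, 1, 2, 3, 4, 5]
    simp only [List.mem_cons, List.mem_nil_iff, or_false]
    omega

theorem tv_chk : ∀ n < 256, dec ([0, 1, 0, 1, 0, 1, 0, 1, 0, 1].foldr act n) =
    dec n + ((1 : K4) * Cfsg.sympForm 2 K4 (dec n) (dec 16)) • dec 16 := by decide +kernel

theorem tv_base : tv (dec 16) (1 : K4) ∈ M0 := by
  have h : tv (dec 16) (1 : K4) = evalW vM [0, 1, 0, 1, 0, 1, 0, 1, 0, 1] := by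
    apply sp_ext
    intro x
    obtain ⟨n, hn, rfl⟩ := dec_surj x
    rw [← (foldr_spec _ (by decide) n hn).2, tv_chk n hn]
    exact tv_mulVec _ _ _
  rw [h]
  exact evalW_mem _ (by decide)

/-- words carrying the base vector to a given vector -/
def paths : List (List ℕ) := [
  [],
  [1, 3, 4],
  [0, 1, 3, 5, 3, 1, 2, 0, 1, 3, 4],
  [2, 0, 1, 3, 4, 3, 1, 0, 1, 3, 4],
  [5, 3, 4],
  [2, 1, 3, 4],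
  [5, 3, 0, 1, 0, 1, 3, 4],
  [5, 3, 0, 1, 2, 1, 0, 1, 3, 4],
  [1, 0, 1, 3, 4, 1, 2, 0, 1, 3, 4],
  [1, 3, 0, 1, 0, 1, 3, 4],
  [2, 0, 1, 3, 5, 3, 1, 2, 0, 1, 3, 4],
  [4, 3, 0, 1, 2, 0, 1, 3, 4],
  [1, 2, 0, 1, 3, 5, 1, 0, 1, 3, 4],
  [2, 1, 3, 0, 1, 0, 1, 3, 4],
  [4, 3, 2, 0, 1, 0, 1, 3, 4],
  [0, 1, 3, 4, 3, 1, 0, 1, 3, 4],
  [],
  [1, 3, 5],
  [5, 3, 2, 1, 0, 1, 3, 5],
  [5, 3, 1, 2, 1, 0, 1, 3, 4],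
  [1, 3, 5, 2, 1, 3, 4],
  [2, 1, 3, 5],
  [5, 2, 1, 3, 4, 1, 2, 0, 1, 3, 4],
  [2, 1, 3, 4, 3, 1, 0, 1, 3, 4],
  [1, 3, 5, 0, 1, 0, 1, 3, 4],
  [1, 3, 0, 1, 0, 1, 3, 5],
  [4, 3, 1, 0, 1, 3, 5],
  [1, 3, 4, 3, 1, 0, 1, 3, 4],
  [1, 3, 5, 0, 1, 2, 1, 0, 1, 3, 4],
  [2, 1, 3, 0, 1, 0, 1, 3, 5],
  [4, 1, 3, 4, 1, 2, 0, 1, 3, 4],
  [4, 3, 1, 2, 0, 1, 3, 4],
  [5, 3, 1, 0, 1, 3, 5, 3, 1, 2, 0, 1, 3, 4],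
  [0, 1, 3, 0, 1, 0, 1, 3, 4],
  [4, 0, 1, 3, 4, 1, 2, 0, 1, 3, 4],
  [4, 3, 1, 2, 1, 0, 1, 3, 5],
  [1, 0, 1, 3, 4, 2, 1, 0, 1, 3, 4],
  [2, 0, 1, 3, 0, 1, 0, 1, 3, 4],
  [4, 3, 0, 1, 0, 1, 3, 5],
  [4, 2, 1, 3, 5, 1, 0, 1, 3, 4],
  [1, 2, 0, 1, 3, 5, 2, 0, 1, 3, 4],
  [0, 1, 3, 4],
  [5, 2, 0, 1, 3, 4, 1, 2, 0, 1, 3, 4],
  [5, 1, 3, 5, 1, 0, 1, 3, 4],
  [5, 1, 0, 1, 2, 0, 1, 3, 4],
  [2, 0, 1, 3, 4],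
  [5, 3, 2, 0, 1, 0, 1, 3, 5],
  [5, 3, 1, 2, 0, 1, 3, 5],
  [5, 3, 1, 2, 0, 1, 3, 4, 3, 1, 0, 1, 3, 4],
  [0, 1, 3, 0, 1, 0, 1, 3, 5],
  [4, 3, 2, 1, 0, 1, 3, 4],
  [4, 2, 0, 1, 3, 5, 1, 0, 1, 3, 4],
  [5, 1, 3, 5, 2, 1, 3, 0, 1, 0, 1, 3, 4],
  [2, 0, 1, 3, 0, 1, 0, 1, 3, 5],
  [2, 1, 3, 5, 3, 1, 2, 0, 1, 3, 4],
  [4, 3, 0, 1, 2, 1, 0, 1, 3, 5],
  [5, 1, 2, 0, 1, 0, 1, 3, 4],
  [0, 1, 3, 5],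
  [5, 3, 1, 0, 1, 3, 4],
  [5, 3, 0, 1, 2, 0, 1, 3, 5],
  [1, 0, 1, 3, 4, 0, 1, 3, 4],
  [2, 0, 1, 3, 5],
  [1, 3, 5, 3, 1, 2, 0, 1, 3, 4],
  [5, 0, 1, 3, 5, 1, 0, 1, 3, 4],
  [3, 5, 2, 1, 3, 4],
  [5],
  [3, 4, 3, 0, 1, 2, 1, 0, 1, 3, 4],
  [3, 4, 3, 0, 1, 0, 1, 3, 4],
  [5, 2, 1, 3, 4],
  [3, 4],
  [5, 3, 0, 1, 2, 1, 0, 1, 3, 5],
  [5, 3, 0, 1, 0, 1, 3, 5],
  [2, 1, 3, 5, 1, 2, 1, 0, 1, 3, 4],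
  [1, 3, 2, 1, 0, 1, 3, 5],
  [3, 5, 3, 1, 2, 0, 1, 3, 4],
  [4, 3, 1, 0, 1, 3, 4],
  [2, 1, 3, 4, 2, 1, 0, 1, 3, 4],
  [1, 3, 1, 2, 1, 0, 1, 3, 4],
  [4, 3, 1, 2, 0, 1, 3, 5],
  [4, 3, 5, 1, 0, 1, 3, 4],
  [4, 1, 3, 4],
  [4],
  [5, 3, 1, 2, 1, 0, 1, 3, 5],
  [5, 3, 2, 1, 0, 1, 3, 4],
  [3, 4, 1, 3, 4],
  [3, 5],
  [3, 4, 3, 1, 2, 1, 0, 1, 3, 4],
  [5, 3, 4, 2, 1, 0, 1, 3, 4],
  [1, 3, 4, 2, 1, 0, 1, 3, 4],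
  [1, 3, 2, 1, 0, 1, 3, 4],
  [4, 3, 0, 1, 2, 0, 1, 3, 5],
  [3, 5, 3, 2, 0, 1, 0, 1, 3, 4],
  [1, 3, 5, 1, 2, 1, 0, 1, 3, 4],
  [1, 3, 1, 2, 1, 0, 1, 3, 5],
  [3, 5, 3, 0, 1, 2, 0, 1, 3, 4],
  [4, 3, 2, 0, 1, 0, 1, 3, 5],
  [4, 3, 5, 2, 1, 3, 0, 1, 0, 1, 3, 4],
  [3, 1, 0, 1, 3, 0, 1, 0, 1, 3, 5],
  [4, 3, 5, 0, 1, 2, 1, 0, 1, 3, 4],
  [4, 3, 2, 1, 0, 1, 3, 5],
  [2, 0, 1, 3, 4, 2, 1, 0, 1, 3, 4],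
  [1, 0, 1, 3, 0, 1, 0, 1, 3, 4],
  [4, 3, 0, 1, 2, 1, 0, 1, 3, 4],
  [3, 5, 3, 2, 1, 0, 1, 3, 4],
  [3, 5, 2, 0, 1, 3, 4],
  [1, 2, 0, 1, 0, 1, 3, 5],
  [5, 3, 4, 1, 2, 0, 1, 3, 4],
  [5, 3, 4, 2, 0, 1, 0, 1, 3, 4],
  [5, 2, 0, 1, 3, 4],
  [1, 0, 1, 2, 0, 1, 3, 4],
  [5, 3, 1, 2, 0, 1, 3, 4],
  [5, 3, 2, 0, 1, 0, 1, 3, 4],
  [0, 1, 3, 4, 2, 1, 0, 1, 3, 4],
  [3, 1, 0, 1, 3, 0, 1, 0, 1, 3, 4],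
  [4, 3, 1, 2, 1, 0, 1, 3, 4],
  [4, 3, 5, 0, 1, 0, 1, 3, 4],
  [5, 3, 4, 1, 3, 0, 1, 0, 1, 3, 4],
  [1, 0, 1, 3, 0, 1, 0, 1, 3, 5],
  [4, 3, 5, 1, 2, 1, 0, 1, 3, 4],
  [4, 3, 0, 1, 0, 1, 3, 4],
  [4, 0, 1, 3, 4],
  [1, 2, 0, 1, 0, 1, 3, 4],
  [5, 3, 0, 1, 2, 0, 1, 3, 4],
  [5, 3, 1, 0, 1, 3, 5],
  [3, 4, 0, 1, 3, 4],
  [1, 0, 1, 2, 0, 1, 3, 5],
  [5, 3, 4, 0, 1, 2, 0, 1, 3, 4],
  [3, 4, 3, 1, 0, 1, 3, 4],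
  [2, 0, 1, 3, 5, 2, 0, 1, 3, 4],
  [0, 1, 2, 0, 1, 3, 4],
  [3, 5, 1, 0, 1, 3, 4, 1, 2, 0, 1, 3, 4],
  [3, 5, 1, 3, 0, 1, 0, 1, 3, 4],
  [5, 1, 0, 1, 3, 4],
  [1, 2, 0, 1, 3, 5],
  [5, 1, 0, 1, 3, 0, 1, 0, 1, 3, 4],
  [5, 2, 0, 1, 3, 0, 1, 0, 1, 3, 5],
  [2, 0, 1, 3, 4, 1, 2, 0, 1, 3, 4],
  [3, 0, 1, 2, 0, 1, 3, 5],
  [1, 0, 1, 3, 5, 3, 1, 2, 0, 1, 3, 4],
  [4, 1, 3, 0, 1, 0, 1, 3, 5],
  [3, 5, 1, 0, 1, 3, 4],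
  [3, 1, 2, 0, 1, 3, 4],
  [4, 1, 3, 1, 2, 1, 0, 1, 3, 5],
  [2, 1, 3, 5, 3, 2, 1, 0, 1, 3, 4],
  [4, 2, 0, 1, 0, 1, 3, 4],
  [0, 1, 2, 0, 1, 3, 5],
  [3, 5, 1, 3, 2, 1, 0, 1, 3, 4],
  [5, 0, 1, 3, 0, 1, 0, 1, 3, 4],
  [1, 3, 5, 2, 0, 1, 3, 4],
  [1, 2, 0, 1, 3, 4],
  [1, 3, 4, 2, 1, 3, 0, 1, 0, 1, 3, 5],
  [3, 5, 2, 1, 3, 0, 1, 0, 1, 3, 5],
  [3, 4, 2, 0, 1, 0, 1, 3, 4],
  [3, 0, 1, 2, 0, 1, 3, 4],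
  [4, 1, 3, 2, 1, 0, 1, 3, 5],
  [4, 1, 3, 4, 2, 1, 0, 1, 3, 4],
  [1, 3, 4, 1, 2, 0, 1, 3, 4],
  [3, 1, 2, 0, 1, 3, 5],
  [1, 3, 4, 3, 0, 1, 2, 1, 0, 1, 3, 4],
  [4, 2, 1, 3, 0, 1, 0, 1, 3, 4],
  [0, 1, 3, 4, 1, 2, 0, 1, 3, 4],
  [3, 1, 2, 1, 0, 1, 3, 4],
  [3, 1, 0, 1, 3, 5, 3, 1, 2, 0, 1, 3, 4],
  [4, 0, 1, 3, 0, 1, 0, 1, 3, 5],
  [3, 4, 2, 1, 0, 1, 3, 4],
  [3, 0, 1, 2, 1, 0, 1, 3, 5],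
  [4, 1, 0, 1, 3, 0, 1, 0, 1, 3, 5],
  [3, 4, 2, 1, 3, 0, 1, 0, 1, 3, 4],
  [0, 1, 3, 5, 2, 0, 1, 3, 4],
  [1, 2, 1, 0, 1, 3, 5],
  [5, 1, 0, 1, 3, 4, 1, 2, 0, 1, 3, 4],
  [1, 3, 5, 3, 2, 1, 0, 1, 3, 4],
  [4, 2, 1, 0, 1, 3, 4],
  [0, 1, 2, 1, 0, 1, 3, 4],
  [5, 1, 3, 1, 2, 1, 0, 1, 3, 4],
  [5, 2, 1, 3, 0, 1, 0, 1, 3, 5],
  [3, 5, 0, 1, 0, 1, 3, 4],
  [3, 1, 2, 1, 0, 1, 3, 5],
  [3, 4, 1, 3, 2, 1, 0, 1, 3, 5],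
  [3, 4, 1, 3, 0, 1, 0, 1, 3, 5],
  [2, 1, 3, 4, 1, 2, 0, 1, 3, 4],
  [3, 0, 1, 2, 1, 0, 1, 3, 4],
  [1, 3, 5, 2, 1, 3, 0, 1, 0, 1, 3, 4],
  [4, 2, 0, 1, 3, 0, 1, 0, 1, 3, 4],
  [5, 0, 1, 0, 1, 3, 4],
  [1, 2, 1, 0, 1, 3, 4],
  [5, 1, 3, 2, 1, 0, 1, 3, 4],
  [5, 1, 3, 0, 1, 0, 1, 3, 4],
  [2, 1, 3, 5, 2, 0, 1, 3, 4],
  [0, 1, 2, 1, 0, 1, 3, 5],
  [5, 1, 3, 5, 0, 1, 2, 1, 0, 1, 3, 4],
  [5, 2, 1, 3, 4, 2, 1, 0, 1, 3, 4],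
  [0, 1, 3, 4, 0, 1, 3, 4],
  [2, 0, 1, 0, 1, 3, 4],
  [3, 5, 2, 1, 3, 0, 1, 0, 1, 3, 4],
  [3, 5, 1, 2, 0, 1, 3, 5, 1, 0, 1, 3, 4],
  [4, 1, 2, 0, 1, 3, 4],
  [1, 0, 1, 3, 4],
  [5, 2, 0, 1, 3, 0, 1, 0, 1, 3, 4],
  [3, 5, 1, 3, 2, 1, 0, 1, 3, 5],
  [3, 4, 1, 2, 0, 1, 3, 4],
  [3, 1, 0, 1, 3, 5],
  [4, 2, 1, 3, 5, 1, 2, 1, 0, 1, 3, 4],
  [4, 1, 3, 2, 1, 0, 1, 3, 4],
  [0, 1, 3, 5, 1, 0, 1, 3, 4],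
  [3, 2, 0, 1, 0, 1, 3, 5],
  [4, 2, 1, 3, 0, 1, 0, 1, 3, 5],
  [1, 2, 0, 1, 3, 4, 3, 1, 0, 1, 3, 4],
  [4, 0, 1, 2, 0, 1, 3, 4],
  [2, 0, 1, 0, 1, 3, 5],
  [5, 0, 1, 3, 0, 1, 0, 1, 3, 5],
  [3, 5, 1, 3, 1, 2, 1, 0, 1, 3, 5],
  [1, 3, 4, 0, 1, 3, 4],
  [1, 0, 1, 3, 5],
  [3, 5, 1, 3, 0, 1, 0, 1, 3, 5],
  [3, 5, 1, 3, 5, 0, 1, 0, 1, 3, 4],
  [1, 3, 5, 1, 0, 1, 3, 4],
  [3, 1, 0, 1, 3, 4],
  [4, 1, 3, 0, 1, 0, 1, 3, 4],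
  [1, 3, 4, 3, 0, 1, 0, 1, 3, 4],
  [3, 4, 0, 1, 2, 0, 1, 3, 4],
  [3, 2, 0, 1, 0, 1, 3, 4],
  [3, 4, 0, 1, 3, 0, 1, 0, 1, 3, 4],
  [4, 1, 3, 1, 2, 1, 0, 1, 3, 4],
  [3, 5, 0, 1, 2, 1, 0, 1, 3, 4],
  [3, 2, 1, 0, 1, 3, 4],
  [3, 4, 2, 1, 3, 0, 1, 0, 1, 3, 5],
  [3, 4, 1, 3, 1, 2, 1, 0, 1, 3, 4],
  [2, 1, 3, 5, 1, 0, 1, 3, 4],
  [3, 0, 1, 0, 1, 3, 4],
  [4, 2, 0, 1, 3, 0, 1, 0, 1, 3, 5],
  [1, 3, 5, 1, 3, 0, 1, 0, 1, 3, 4],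
  [2, 1, 3, 4, 0, 1, 3, 4],
  [0, 1, 0, 1, 3, 5],
  [3, 5, 2, 0, 1, 3, 0, 1, 0, 1, 3, 4],
  [5, 1, 3, 5, 0, 1, 0, 1, 3, 4],
  [5, 0, 1, 2, 1, 0, 1, 3, 4],
  [2, 1, 0, 1, 3, 5],
  [5, 2, 1, 3, 0, 1, 0, 1, 3, 4],
  [5, 1, 3, 1, 2, 1, 0, 1, 3, 5],
  [2, 0, 1, 3, 5, 1, 0, 1, 3, 4],
  [3, 2, 1, 0, 1, 3, 5],
  [4, 0, 1, 3, 0, 1, 0, 1, 3, 4],
  [3, 1, 2, 0, 1, 3, 4, 3, 1, 0, 1, 3, 4],
  [3, 5, 1, 2, 1, 0, 1, 3, 4],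
  [3, 0, 1, 0, 1, 3, 5],
  [3, 4, 1, 3, 0, 1, 0, 1, 3, 4],
  [3, 4, 1, 3, 2, 1, 0, 1, 3, 4],
  [5, 1, 2, 1, 0, 1, 3, 4],
  [0, 1, 0, 1, 3, 4],
  [5, 1, 3, 0, 1, 0, 1, 3, 5],
  [5, 1, 3, 2, 1, 0, 1, 3, 5],
  [2, 0, 1, 3, 4, 0, 1, 3, 4],
  [2, 1, 0, 1, 3, 4],
  [5, 1, 3, 5, 1, 2, 1, 0, 1, 3, 4],
  [5, 1, 2, 0, 1, 3, 5, 1, 0, 1, 3, 4]]

theorem paths_chk : ∀ n < 256, n ≠ 0 → (∀ y ∈ paths.getD n [], y < 6) ∧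
    (paths.getD n []).foldr act 16 = n := by decide +kernel

theorem dec_zero : dec 0 = 0 := by decide +kernel

theorem tv_one_mem (v : V4) : tv v (1 : K4) ∈ M0 := by
  obtain ⟨n, hn, rfl⟩ := dec_surj v
  by_cases h0 : n = 0
  · rw [h0, dec_zero, tv_zero_left]; exact M0.one_mem
  · obtain ⟨h1, h2⟩ := paths_chk n hn h0
    have h3 := (foldr_spec _ h1 16 (by norm_num)).2
    rw [h2] at h3
    rw [h3, ← tv_conj]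
    exact M0.mul_mem (M0.mul_mem (evalW_mem _ h1) tv_base) (M0.inv_mem (evalW_mem _ h1))

theorem sq_sq : ∀ c : K4, (c ^ 2) ^ 2 * 1 = c := by decide +kernel

theorem M0_top : M0 = ⊤ := by
  rw [eq_top_iff, ← Cfsg.Agent.S0765.result 2, Subgroup.closure_le]
  rintro A ⟨w, c, hA⟩
  have hA' : A = tv w c := Subtype.ext hA
  rw [SetLike.mem_coe, hA', ← sq_sq c, ← tv_smul]
  exact tv_one_mem _

theorem card_SpG : Nat.card SpG = 979200 := by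
  rw [card_symplecticGroup, K4.card_eq]
  decide +kernel

end Cfsg.Agent.Lib.Helper93.Sp4
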